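import Cfsg.Agent.H8.RU.D.D0

/-! Generated by tools/h0/tr.py. -/

set_option maxRecDepth 100000
set_option maxHeartbeats 0

namespace H8.RU
open H16 H0.TR
open scoped commutatorElement

theorem st_m_10_0 : allZ (matEnt (wdsP H15.Ru.P st_W) st_P (nat_lit 10)) (nat_lit 0) (nat_lit 4060) = true := by decide +kernel
theorem st_m_11_0 : allZ (matEnt (wdsP H15.Ru.P st_W) st_P (nat_lit 11)) (nat_lit 0) (nat_lit 4060) = true := by decide +kernel
theorem st_m_12_0 : allZ (matEnt (wdsP H15.Ru.P st_W) st_P (nat_lit 12)) (nat_lit 0) (nat_lit 4060) = true := by decide +kernel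
theorem st_m_13_0 : allZ (matEnt (wdsP H15.Ru.P st_W) st_P (nat_lit 13)) (nat_lit 0) (nat_lit 4060) = true := by decide +kernel
theorem s_r_a : allZ2 (resEnt st_P sP sE sI (nat_lit 4060) (nat_lit 144)) (nat_lit 14) (nat_lit 144) = true := by decide +kernel
theorem s_b : neL H15.Ru.B (sB.map sE) = 0 ∧ ltAll 144 sB = 0 := by decide +kernel
theorem s_p : allZ2 (pcEnt sP (nat_lit 2) sB sC) 14 14 = true := by decide +kernel
theorem s_e : allL (ltAll 14) se = true := by decide +kernel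
theorem sl0_e_0 : allZ (dent sl0 (wdsP sP se) (nat_lit 144)) (nat_lit 0) (nat_lit 127) = true := by decide +kernel
theorem sl0_h : 0 < sl0.n ∧ 0 < sl0.K ∧ sl0.Pt 0 < 144 ∧ sl0.Q (sl0.Pt 0) = 0 := by decide +kernel
theorem sl1_e_0 : allZ (dent sl1 (wdsP sP se) (nat_lit 144)) (nat_lit 0) (nat_lit 31) = true := by decide +kernel
theorem sl1_h : 0 < sl1.n ∧ 0 < sl1.K ∧ sl1.Pt 0 < 144 ∧ sl1.Q (sl1.Pt 0) = 0 := by decide +kernel
theorem sl2_e_0 : allZ (dent sl2 (wdsP sP se) (nat_lit 144)) (nat_lit 0) (nat_lit 3) = true := by decide +kernel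
theorem sl2_h : 0 < sl2.n ∧ 0 < sl2.K ∧ sl2.Pt 0 < 144 ∧ sl2.Q (sl2.Pt 0) = 0 := by decide +kernel
theorem s_f2 : (Nat.ble sl2.K 13 && Nat.ble (topK []) sl2.K && fixLetters (wdsP sP se) (topK []) (sl2.Pt 0)) = true := by decide +kernel
theorem s_f1 : (Nat.ble sl1.K 13 && Nat.ble (topK [sl2]) sl1.K && fixLetters (wdsP sP se) (topK [sl2]) (sl1.Pt 0)) = true := by decide +kernel
theorem s_f0 : (Nat.ble sl0.K 13 && Nat.ble (topK [sl1, sl2]) sl0.K && fixLetters (wdsP sP se) (topK [sl1, sl2]) (sl0.Pt 0)) = true := by decide +kernel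
theorem s_c : chainCard [sl0, sl1, sl2] = 2 ^ 14 ∧ ¬ 2 ^ (14 + 1) ∣ 145926144000 := by decide +kernel
theorem cvr_lt : allL (ltAll 7) cvr_W = true := by decide +kernel
theorem cv_c0 : (Nat.ble 12 14 && Nat.beq (ltAll 14 []) 0 && Nat.beq (cvT0.chk H15.Ru.P sP cvr_P sE 7 14 2 4 6 sB 12 [] 0) 0) = true := by decide +kernel
theorem cv_c1 : (Nat.ble 12 14 && Nat.beq (ltAll 14 [nat_lit 12]) 0 && Nat.beq (cvT1.chk H15.Ru.P sP cvr_P sE 7 14 2 4 6 sB 12 [nat_lit 12] 0) 0) = true := by decide +kernel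
theorem cv_c2 : (Nat.ble 12 14 && Nat.beq (ltAll 14 [nat_lit 13]) 0 && Nat.beq (cvT2.chk H15.Ru.P sP cvr_P sE 7 14 2 4 6 sB 12 [nat_lit 13] 0) 0) = true := by decide +kernel
theorem cv_c3 : (Nat.ble 12 14 && Nat.beq (ltAll 14 [nat_lit 12, nat_lit 13]) 0 && Nat.beq (cvT3.chk H15.Ru.P sP cvr_P sE 7 14 2 4 6 sB 12 [nat_lit 12, nat_lit 13] 0) 0) = true := by decide +kernel
theorem y_lt : allL (ltAll 7) y_W = true := by decide +kernel
theorem x_lt : allL (ltAll 7) x_W = true := by decide +kernel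
theorem x_m_0_0 : allZ (matEnt (wdsP H15.Ru.P x_W) x_P (nat_lit 0)) (nat_lit 0) (nat_lit 2048) = true := by decide +kernel
theorem x_m_0_1 : allZ (matEnt (wdsP H15.Ru.P x_W) x_P (nat_lit 0)) (nat_lit 2048) (nat_lit 2012) = true := by decide +kernel
theorem x_m_1_0 : allZ (matEnt (wdsP H15.Ru.P x_W) x_P (nat_lit 1)) (nat_lit 0) (nat_lit 2560) = true := by decide +kernel
theorem x_m_1_1 : allZ (matEnt (wdsP H15.Ru.P x_W) x_P (nat_lit 1)) (nat_lit 2560) (nat_lit 1500) = true := by decide +kernel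
theorem x_m_2_0 : allZ (matEnt (wdsP H15.Ru.P x_W) x_P (nat_lit 2)) (nat_lit 0) (nat_lit 2112) = true := by decide +kernel
theorem x_m_2_1 : allZ (matEnt (wdsP H15.Ru.P x_W) x_P (nat_lit 2)) (nat_lit 2112) (nat_lit 1948) = true := by decide +kernel
theorem yle_k : allZ (fun a => Nat.add (ltAll 14 (nth [] [[nat_lit 0, nat_lit 1, nat_lit 3, nat_lit 4, nat_lit 5, nat_lit 7, nat_lit 9, nat_lit 11, nat_lit 12],
  [nat_lit 1, nat_lit 2, nat_lit 3, nat_lit 9, nat_lit 10, nat_lit 13],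
  [nat_lit 1, nat_lit 2, nat_lit 3, nat_lit 4, nat_lit 7, nat_lit 8, nat_lit 11]] a)) (sumL (fun β => Nat.xor (y_P a β) (apW st_P (nth [] [[nat_lit 0, nat_lit 1, nat_lit 3, nat_lit 4, nat_lit 5, nat_lit 7, nat_lit 9, nat_lit 11, nat_lit 12],
  [nat_lit 1, nat_lit 2, nat_lit 3, nat_lit 9, nat_lit 10, nat_lit 13],
  [nat_lit 1, nat_lit 2, nat_lit 3, nat_lit 4, nat_lit 7, nat_lit 8, nat_lit 11]] a) β)) H15.Ru.B)) 0 3 = true := by decide +kernel
theorem xth_lt : allL (ltAll 7) xth_W = true := by decide +kernel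
theorem xtl0_e_0 : allZ (dent xtl0 xth_P (nat_lit 4060)) (nat_lit 0) (nat_lit 4059) = true := by decide +kernel
theorem xtl0_h : 0 < xtl0.n ∧ 0 < xtl0.K ∧ xtl0.Pt 0 < 4060 ∧ xtl0.Q (xtl0.Pt 0) = 0 := by decide +kernel

end H8.RU
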