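import Cfsg.Agent.H8.RU.D.D0

/-! Generated by tools/h0/tr.py. -/

set_option maxRecDepth 100000
set_option maxHeartbeats 0

namespace H8.RU
open H16 H0.TR
open scoped commutatorElement

theorem xtl1_e_0 : allZ (dent xtl1 xth_P (nat_lit 4060)) (nat_lit 0) (nat_lit 1754) = true := by decide +kernel
theorem xtl1_h : 0 < xtl1.n ∧ 0 < xtl1.K ∧ xtl1.Pt 0 < 4060 ∧ xtl1.Q (xtl1.Pt 0) = 0 := by decide +kernel
theorem xtl2_e_0 : allZ (dent xtl2 xth_P (nat_lit 4060)) (nat_lit 0) (nat_lit 9) = true := by decide +kernel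
theorem xtl2_h : 0 < xtl2.n ∧ 0 < xtl2.K ∧ xtl2.Pt 0 < 4060 ∧ xtl2.Q (xtl2.Pt 0) = 0 := by decide +kernel
theorem xtl3_e_0 : allZ (dent xtl3 xth_P (nat_lit 4060)) (nat_lit 0) (nat_lit 63) = true := by decide +kernel
theorem xtl3_h : 0 < xtl3.n ∧ 0 < xtl3.K ∧ xtl3.Pt 0 < 4060 ∧ xtl3.Q (xtl3.Pt 0) = 0 := by decide +kernel
theorem xtl4_e_0 : allZ (dent xtl4 xth_P (nat_lit 4060)) (nat_lit 0) (nat_lit 31) = true := by decide +kernel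
theorem xtl4_h : 0 < xtl4.n ∧ 0 < xtl4.K ∧ xtl4.Pt 0 < 4060 ∧ xtl4.Q (xtl4.Pt 0) = 0 := by decide +kernel
theorem xt_f4 : (Nat.ble xtl4.K 16 && Nat.ble (topK []) xtl4.K && fixLetters xth_P (topK []) (xtl4.Pt 0)) = true := by decide +kernel
theorem xt_f3 : (Nat.ble xtl3.K 16 && Nat.ble (topK [xtl4]) xtl3.K && fixLetters xth_P (topK [xtl4]) (xtl3.Pt 0)) = true := by decide +kernel
theorem xt_f2 : (Nat.ble xtl2.K 16 && Nat.ble (topK [xtl3, xtl4]) xtl2.K && fixLetters xth_P (topK [xtl3, xtl4]) (xtl2.Pt 0)) = true := by decide +kernel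
theorem xt_f1 : (Nat.ble xtl1.K 16 && Nat.ble (topK [xtl2, xtl3, xtl4]) xtl1.K && fixLetters xth_P (topK [xtl2, xtl3, xtl4]) (xtl1.Pt 0)) = true := by decide +kernel
theorem xt_f0 : (Nat.ble xtl0.K 16 && Nat.ble (topK [xtl1, xtl2, xtl3, xtl4]) xtl0.K && fixLetters xth_P (topK [xtl1, xtl2, xtl3, xtl4]) (xtl0.Pt 0)) = true := by decide +kernel
theorem xt_c : chainCard [xtl0, xtl1, xtl2, xtl3, xtl4] = 145926144000 := by decide +kernel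
theorem xce_lt : allL (ltAll 7) xce_W = true := by decide +kernel
theorem xc_f4 : (Nat.ble xtl4.K 16 && Nat.blt (nat_lit 13) 4060 && fixLetters xth_P xtl4.K (nat_lit 13) && Nat.beq (ltAll 3 [nat_lit 0]) 0 && Nat.beq (apW x_P [nat_lit 0] (nat_lit 13)) (xtl4.Pt 0)) = true := by decide +kernel
theorem xc_f3 : (Nat.ble xtl3.K 16 && Nat.blt (nat_lit 13) 4060 && fixLetters xth_P xtl3.K (nat_lit 13) && Nat.beq (ltAll 3 [nat_lit 1, nat_lit 1]) 0 && Nat.beq (apW x_P [nat_lit 1, nat_lit 1] (nat_lit 13)) (xtl3.Pt 0)) = true := by decide +kernel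
theorem xc_f2 : (Nat.ble xtl2.K 16 && Nat.blt (nat_lit 13) 4060 && fixLetters xth_P xtl2.K (nat_lit 13) && Nat.beq (ltAll 3 [nat_lit 1, nat_lit 0, nat_lit 2, nat_lit 0, nat_lit 1]) 0 && Nat.beq (apW x_P [nat_lit 1, nat_lit 0, nat_lit 2, nat_lit 0, nat_lit 1] (nat_lit 13)) (xtl2.Pt 0)) = true := by decide +kernel
theorem xc_f1 : (Nat.ble xtl1.K 16 && Nat.blt (nat_lit 13) 4060 && fixLetters xth_P xtl1.K (nat_lit 13) && Nat.beq (ltAll 3 [nat_lit 1]) 0 && Nat.beq (apW x_P [nat_lit 1] (nat_lit 13)) (xtl1.Pt 0)) = true := by decide +kernel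
theorem xcc0_e_0 : allZ (dent xcc0 xce_P (nat_lit 4060)) (nat_lit 0) (nat_lit 3) = true := by decide +kernel
theorem xcc0_h : 0 < xcc0.n ∧ 0 < xcc0.K ∧ xcc0.Pt 0 < 4060 ∧ xcc0.Q (xcc0.Pt 0) = 0 := by decide +kernel
theorem xtn0_0 : (Nat.ble xtl0.K 16 && Nat.beq (ltAll 4060 []) 0 && kChk xce_P x_P xtn0.Kn 3 H15.Ru.B [] && allL (ltAll 3) xtn0.pre && planOK xth_P x_P 3 (xtl0.Pt 0) xtn0.plan [xtl0, xtl1, xtl2, xtl3, xtl4]) = true := by decide +kernel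
theorem xtn0_1_0 : allZ (xtn0.ent H15.Ru.P xth_P x_P x_P xce_P (nat_lit 7) (nat_lit 3) H15.Ru.B xtl0 [xtl1, xtl2, xtl3, xtl4] (memO xcc0)) (nat_lit 0) (nat_lit 4060) = true := by decide +kernel
theorem xc_f0 : (Nat.ble xcc0.K 2 && Nat.ble (topK []) xcc0.K && Nat.beq (xcc0.Pt 0) (xtl0.Pt 0) && Nat.beq (ltAll 4060 []) 0 && kChk xce_P x_P xcc0.K 3 H15.Ru.B []) = true := by decide +kernel
theorem xc_c : chainCard [xcc0] = 4 ∧ topK [xcc0] = 2 := by decide +kernel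
theorem e00_k : eqL xce_P 2 H15.Ru.B [nat_lit 0, nat_lit 0] [] = 0 := by decide +kernel
theorem e11_k : eqL xce_P 2 H15.Ru.B [nat_lit 1, nat_lit 1] [] = 0 := by decide +kernel
theorem e01_k : eqL xce_P 2 H15.Ru.B [nat_lit 0, nat_lit 1] [nat_lit 1, nat_lit 0] = 0 := by decide +kernel
theorem c1x_lt : allL (ltAll 7) c1x_W = true := by decide +kernel
theorem c1th_lt : allL (ltAll 7) c1th_W = true := by decide +kernel
theorem c1tl0_e_0 : allZ (dent c1tl0 c1th_P (nat_lit 4060)) (nat_lit 0) (nat_lit 4059) = true := by decide +kernel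
theorem c1tl0_h : 0 < c1tl0.n ∧ 0 < c1tl0.K ∧ c1tl0.Pt 0 < 4060 ∧ c1tl0.Q (c1tl0.Pt 0) = 0 := by decide +kernel
theorem c1tl1_e_0 : allZ (dent c1tl1 c1th_P (nat_lit 4060)) (nat_lit 0) (nat_lit 2303) = true := by decide +kernel
theorem c1tl1_h : 0 < c1tl1.n ∧ 0 < c1tl1.K ∧ c1tl1.Pt 0 < 4060 ∧ c1tl1.Q (c1tl1.Pt 0) = 0 := by decide +kernel
theorem c1tl2_e_0 : allZ (dent c1tl2 c1th_P (nat_lit 4060)) (nat_lit 0) (nat_lit 77) = true := by decide +kernel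
theorem c1tl2_h : 0 < c1tl2.n ∧ 0 < c1tl2.K ∧ c1tl2.Pt 0 < 4060 ∧ c1tl2.Q (c1tl2.Pt 0) = 0 := by decide +kernel
theorem c1tl3_e_0 : allZ (dent c1tl3 c1th_P (nat_lit 4060)) (nat_lit 0) (nat_lit 49) = true := by decide +kernel
theorem c1tl3_h : 0 < c1tl3.n ∧ 0 < c1tl3.K ∧ c1tl3.Pt 0 < 4060 ∧ c1tl3.Q (c1tl3.Pt 0) = 0 := by decide +kernel
theorem c1tl4_e_0 : allZ (dent c1tl4 c1th_P (nat_lit 4060)) (nat_lit 0) (nat_lit 1) = true := by decide +kernel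
theorem c1tl4_h : 0 < c1tl4.n ∧ 0 < c1tl4.K ∧ c1tl4.Pt 0 < 4060 ∧ c1tl4.Q (c1tl4.Pt 0) = 0 := by decide +kernel
theorem c1tl5_e_0 : allZ (dent c1tl5 c1th_P (nat_lit 4060)) (nat_lit 0) (nat_lit 1) = true := by decide +kernel
theorem c1tl5_h : 0 < c1tl5.n ∧ 0 < c1tl5.K ∧ c1tl5.Pt 0 < 4060 ∧ c1tl5.Q (c1tl5.Pt 0) = 0 := by decide +kernel
theorem c1t_f5 : (Nat.ble c1tl5.K 16 && Nat.ble (topK []) c1tl5.K && fixLetters c1th_P (topK []) (c1tl5.Pt 0)) = true := by decide +kernel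
theorem c1t_f4 : (Nat.ble c1tl4.K 16 && Nat.ble (topK [c1tl5]) c1tl4.K && fixLetters c1th_P (topK [c1tl5]) (c1tl4.Pt 0)) = true := by decide +kernel
theorem c1t_f3 : (Nat.ble c1tl3.K 16 && Nat.ble (topK [c1tl4, c1tl5]) c1tl3.K && fixLetters c1th_P (topK [c1tl4, c1tl5]) (c1tl3.Pt 0)) = true := by decide +kernel
theorem c1t_f2 : (Nat.ble c1tl2.K 16 && Nat.ble (topK [c1tl3, c1tl4, c1tl5]) c1tl2.K && fixLetters c1th_P (topK [c1tl3, c1tl4, c1tl5]) (c1tl2.Pt 0)) = true := by decide +kernel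
theorem c1t_f1 : (Nat.ble c1tl1.K 16 && Nat.ble (topK [c1tl2, c1tl3, c1tl4, c1tl5]) c1tl1.K && fixLetters c1th_P (topK [c1tl2, c1tl3, c1tl4, c1tl5]) (c1tl1.Pt 0)) = true := by decide +kernel
theorem c1t_f0 : (Nat.ble c1tl0.K 16 && Nat.ble (topK [c1tl1, c1tl2, c1tl3, c1tl4, c1tl5]) c1tl0.K && fixLetters c1th_P (topK [c1tl1, c1tl2, c1tl3, c1tl4, c1tl5]) (c1tl0.Pt 0)) = true := by decide +kernel
theorem c1t_c : chainCard [c1tl0, c1tl1, c1tl2, c1tl3, c1tl4, c1tl5] = 145926144000 := by decide +kernel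
theorem c1ce_lt : allL (ltAll 7) c1ce_W = true := by decide +kernel
theorem c1cc5_e_0 : allZ (dent c1cc5 c1ce_P (nat_lit 4060)) (nat_lit 0) (nat_lit 1) = true := by decide +kernel
theorem c1cc5_h : 0 < c1cc5.n ∧ 0 < c1cc5.K ∧ c1cc5.Pt 0 < 4060 ∧ c1cc5.Q (c1cc5.Pt 0) = 0 := by decide +kernel
theorem c1tn0_0 : (Nat.ble c1tl5.K 16 && Nat.beq (ltAll 4060 [c1tl4.Pt 0, c1tl3.Pt 0, c1tl2.Pt 0, c1tl1.Pt 0, c1tl0.Pt 0]) 0 && kChk c1ce_P c1x_P c1tn0.Kn 1 H15.Ru.B [c1tl4.Pt 0, c1tl3.Pt 0, c1tl2.Pt 0, c1tl1.Pt 0, c1tl0.Pt 0] && allL (ltAll 1) c1tn0.pre && planOK c1th_P c1x_P 1 (c1tl5.Pt 0) c1tn0.plan [c1tl5]) = true := by decide +kernel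
theorem c1tn0_1_0 : allZ (c1tn0.ent H15.Ru.P c1th_P c1x_P c1x_P c1ce_P (nat_lit 7) (nat_lit 1) H15.Ru.B c1tl5 [] (memO c1cc5)) (nat_lit 0) (nat_lit 2) = true := by decide +kernel
theorem c1c_f5 : (Nat.ble c1cc5.K 6 && Nat.ble (topK []) c1cc5.K && Nat.beq (c1cc5.Pt 0) (c1tl5.Pt 0) && Nat.beq (ltAll 4060 [c1tl4.Pt 0, c1tl3.Pt 0, c1tl2.Pt 0, c1tl1.Pt 0, c1tl0.Pt 0]) 0 && kChk c1ce_P c1x_P c1cc5.K 1 H15.Ru.B [c1tl4.Pt 0, c1tl3.Pt 0, c1tl2.Pt 0, c1tl1.Pt 0, c1tl0.Pt 0]) = true := by decide +kernel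
theorem c1tn1y1089_lt : allL (ltAll 7) c1tn1y1089_W = true := by decide +kernel
theorem c1tr2k_lt : allL (ltAll 7) c1tr2k_W = true := by decide +kernel
theorem c1tn2_0 : (Nat.ble c1tl5.K 16 && Nat.beq (ltAll 4060 [c1tl4.Pt 0, c1tl3.Pt 0, c1tl2.Pt 0, c1tl1.Pt 0, c1tl0.Pt 0]) 0 && kChk c1tr2k_P c1tn1y1089_P c1tn2.Kn 1 H15.Ru.B [c1tl4.Pt 0, c1tl3.Pt 0, c1tl2.Pt 0, c1tl1.Pt 0, c1tl0.Pt 0] && allL (ltAll 1) c1tn2.pre && planOK c1th_P c1x_P 1 (c1tl5.Pt 0) c1tn2.plan [c1tl5]) = true := by decide +kernel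
theorem c1tn2_1_0 : allZ (c1tn2.ent H15.Ru.P c1th_P c1x_P c1tn1y1089_P c1tr2k_P (nat_lit 7) (nat_lit 1) H15.Ru.B c1tl5 [] (fun _ => nat_lit 1)) (nat_lit 0) (nat_lit 2) = true := by decide +kernel
theorem c1tn1_0 : (Nat.ble c1tl4.K 16 && Nat.beq (ltAll 4060 [c1tl3.Pt 0, c1tl2.Pt 0, c1tl1.Pt 0, c1tl0.Pt 0]) 0 && kChk c1ce_P c1x_P c1tn1.Kn 1 H15.Ru.B [c1tl3.Pt 0, c1tl2.Pt 0, c1tl1.Pt 0, c1tl0.Pt 0] && allL (ltAll 1) c1tn1.pre && planOK c1th_P c1x_P 1 (c1tl4.Pt 0) c1tn1.plan [c1tl4, c1tl5]) = true := by decide +kernel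
theorem c1tn1_1_0 : allZ (c1tn1.ent H15.Ru.P c1th_P c1x_P c1x_P c1ce_P (nat_lit 7) (nat_lit 1) H15.Ru.B c1tl4 [c1tl5] (fun w => Nat.xor w (c1tl4.Pt (nat_lit 0)))) (nat_lit 0) (nat_lit 2) = true := by decide +kernel
theorem c1c_f3 : (Nat.ble c1tl3.K 16 && Nat.blt (nat_lit 13) 4060 && fixLetters c1th_P c1tl3.K (nat_lit 13) && Nat.beq (ltAll 1 [nat_lit 0]) 0 && Nat.beq (apW c1x_P [nat_lit 0] (nat_lit 13)) (c1tl3.Pt 0)) = true := by decide +kernel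
theorem c1cc2_e_0 : allZ (dent c1cc2 c1ce_P (nat_lit 4060)) (nat_lit 0) (nat_lit 25) = true := by decide +kernel
theorem c1cc2_h : 0 < c1cc2.n ∧ 0 < c1cc2.K ∧ c1cc2.Pt 0 < 4060 ∧ c1cc2.Q (c1cc2.Pt 0) = 0 := by decide +kernel
theorem c1tn3y1609_lt : allL (ltAll 7) c1tn3y1609_W = true := by decide +kernel
theorem c1tr4k_lt : allL (ltAll 7) c1tr4k_W = true := by decide +kernel
theorem c1tn4_0 : (Nat.ble c1tl4.K 16 && Nat.beq (ltAll 4060 [c1tl3.Pt 0, c1tl2.Pt 0, c1tl1.Pt 0, c1tl0.Pt 0]) 0 && kChk c1tr4k_P c1tn3y1609_P c1tn4.Kn 1 H15.Ru.B [c1tl3.Pt 0, c1tl2.Pt 0, c1tl1.Pt 0, c1tl0.Pt 0] && allL (ltAll 1) c1tn4.pre && planOK c1th_P c1x_P 1 (c1tl4.Pt 0) c1tn4.plan [c1tl4, c1tl5]) = true := by decide +kernel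
theorem c1tn4_1_0 : allZ (c1tn4.ent H15.Ru.P c1th_P c1x_P c1tn3y1609_P c1tr4k_P (nat_lit 7) (nat_lit 1) H15.Ru.B c1tl4 [c1tl5] (fun _ => nat_lit 1)) (nat_lit 0) (nat_lit 2) = true := by decide +kernel
theorem c1tn3_0 : (Nat.ble c1tl2.K 16 && Nat.beq (ltAll 4060 [c1tl1.Pt 0, c1tl0.Pt 0]) 0 && kChk c1ce_P c1x_P c1tn3.Kn 1 H15.Ru.B [c1tl1.Pt 0, c1tl0.Pt 0] && allL (ltAll 1) c1tn3.pre && planOK c1th_P c1x_P 1 (c1tl2.Pt 0) c1tn3.plan [c1tl2, c1tl3, c1tl4, c1tl5]) = true := by decide +kernel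
theorem c1tn3_1_0 : allZ (c1tn3.ent H15.Ru.P c1th_P c1x_P c1x_P c1ce_P (nat_lit 7) (nat_lit 1) H15.Ru.B c1tl2 [c1tl3, c1tl4, c1tl5] (memO c1cc2)) (nat_lit 0) (nat_lit 78) = true := by decide +kernel
theorem c1c_f2 : (Nat.ble c1cc2.K 6 && Nat.ble (topK [c1cc5]) c1cc2.K && Nat.beq (c1cc2.Pt 0) (c1tl2.Pt 0) && Nat.beq (ltAll 4060 [c1tl1.Pt 0, c1tl0.Pt 0]) 0 && kChk c1ce_P c1x_P c1cc2.K 1 H15.Ru.B [c1tl1.Pt 0, c1tl0.Pt 0]) = true := by decide +kernel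
theorem c1c_f1 : (Nat.ble c1tl1.K 16 && Nat.blt (nat_lit 0) 4060 && fixLetters c1th_P c1tl1.K (nat_lit 0) && Nat.beq (ltAll 1 [nat_lit 0]) 0 && Nat.beq (apW c1x_P [nat_lit 0] (nat_lit 0)) (c1tl1.Pt 0)) = true := by decide +kernel
theorem c1cc0_e_0 : allZ (dent c1cc0 c1ce_P (nat_lit 4060)) (nat_lit 0) (nat_lit 2239) = true := by decide +kernel
theorem c1cc0_h : 0 < c1cc0.n ∧ 0 < c1cc0.K ∧ c1cc0.Pt 0 < 4060 ∧ c1cc0.Q (c1cc0.Pt 0) = 0 := by decide +kernel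
theorem c1tn5_0 : (Nat.ble c1tl0.K 16 && Nat.beq (ltAll 4060 []) 0 && kChk c1ce_P c1x_P c1tn5.Kn 1 H15.Ru.B [] && allL (ltAll 1) c1tn5.pre && planOK c1th_P c1x_P 1 (c1tl0.Pt 0) c1tn5.plan [c1tl0, c1tl1, c1tl2, c1tl3, c1tl4, c1tl5]) = true := by decide +kernel
theorem c1tn5_1_0 : allZ (c1tn5.ent H15.Ru.P c1th_P c1x_P c1x_P c1ce_P (nat_lit 7) (nat_lit 1) H15.Ru.B c1tl0 [c1tl1, c1tl2, c1tl3, c1tl4, c1tl5] (memO c1cc0)) (nat_lit 0) (nat_lit 4060) = true := by decide +kernel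
theorem c1c_f0 : (Nat.ble c1cc0.K 6 && Nat.ble (topK [c1cc2, c1cc5]) c1cc0.K && Nat.beq (c1cc0.Pt 0) (c1tl0.Pt 0) && Nat.beq (ltAll 4060 []) 0 && kChk c1ce_P c1x_P c1cc0.K 1 H15.Ru.B []) = true := by decide +kernel
theorem c1c_c : chainCard [c1cc0, c1cc2, c1cc5] = 116480 ∧ topK [c1cc0, c1cc2, c1cc5] = 6 := by decide +kernel
theorem ua_lt : allL (ltAll 7) ua_W = true := by decide +kernel
theorem ual0_e_0 : allZ (dent ual0 ua_P (nat_lit 4060)) (nat_lit 0) (nat_lit 63) = true := by decide +kernel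
theorem ual0_h : 0 < ual0.n ∧ 0 < ual0.K ∧ ual0.Pt 0 < 4060 ∧ ual0.Q (ual0.Pt 0) = 0 := by decide +kernel
theorem ual1_e_0 : allZ (dent ual1 ua_P (nat_lit 4060)) (nat_lit 0) (nat_lit 7) = true := by decide +kernel
theorem ual1_h : 0 < ual1.n ∧ 0 < ual1.K ∧ ual1.Pt 0 < 4060 ∧ ual1.Q (ual1.Pt 0) = 0 := by decide +kernel
theorem ua_f1 : (Nat.ble ual1.K 6 && Nat.ble (topK []) ual1.K && fixLetters ua_P (topK []) (ual1.Pt 0)) = true := by decide +kernel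
theorem ua_f0 : (Nat.ble ual0.K 6 && Nat.ble (topK [ual1]) ual0.K && fixLetters ua_P (topK [ual1]) (ual0.Pt 0)) = true := by decide +kernel
theorem ua_c : chainCard [ual0, ual1] = 512 ∧ topK [ual0, ual1] = 6 := by decide +kernel
theorem ule_k : allZ (fun a => Nat.add (ltAll 14 (nth [] [[nat_lit 2, nat_lit 3, nat_lit 11, nat_lit 12],
  [nat_lit 1],
  [nat_lit 2, nat_lit 3, nat_lit 4, nat_lit 7, nat_lit 8, nat_lit 12, nat_lit 13],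
  [nat_lit 3],
  [nat_lit 0, nat_lit 1, nat_lit 2, nat_lit 6, nat_lit 7, nat_lit 11, nat_lit 12],
  [nat_lit 0, nat_lit 2, nat_lit 3, nat_lit 4, nat_lit 7, nat_lit 11, nat_lit 13]] a)) (sumL (fun β => Nat.xor (ua_P a β) (apW st_P (nth [] [[nat_lit 2, nat_lit 3, nat_lit 11, nat_lit 12],
  [nat_lit 1],
  [nat_lit 2, nat_lit 3, nat_lit 4, nat_lit 7, nat_lit 8, nat_lit 12, nat_lit 13],
  [nat_lit 3],
  [nat_lit 0, nat_lit 1, nat_lit 2, nat_lit 6, nat_lit 7, nat_lit 11, nat_lit 12],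
  [nat_lit 0, nat_lit 2, nat_lit 3, nat_lit 4, nat_lit 7, nat_lit 11, nat_lit 13]] a) β)) H15.Ru.B)) 0 6 = true := by decide +kernel
theorem ud_lt : allL (ltAll 7) ud_W = true := by decide +kernel
theorem udl0_e_0 : allZ (dent udl0 ud_P (nat_lit 4060)) (nat_lit 0) (nat_lit 63) = true := by decide +kernel
theorem udl0_h : 0 < udl0.n ∧ 0 < udl0.K ∧ udl0.Pt 0 < 4060 ∧ udl0.Q (udl0.Pt 0) = 0 := by decide +kernel
theorem udl1_e_0 : allZ (dent udl1 ud_P (nat_lit 4060)) (nat_lit 0) (nat_lit 7) = true := by decide +kernel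
theorem udl1_h : 0 < udl1.n ∧ 0 < udl1.K ∧ udl1.Pt 0 < 4060 ∧ udl1.Q (udl1.Pt 0) = 0 := by decide +kernel
theorem ud_f1 : (Nat.ble udl1.K 5 && Nat.ble (topK []) udl1.K && fixLetters ud_P (topK []) (udl1.Pt 0)) = true := by decide +kernel
theorem ud_f0 : (Nat.ble udl0.K 5 && Nat.ble (topK [udl1]) udl0.K && fixLetters ud_P (topK [udl1]) (udl0.Pt 0)) = true := by decide +kernel
theorem ud_c : chainCard [udl0, udl1] = 512 ∧ topK [udl0, udl1] = 5 := by decide +kernel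
theorem vle_k : allZ (fun a => Nat.add (ltAll 14 (nth [] [[nat_lit 1],
  [nat_lit 0, nat_lit 1, nat_lit 2, nat_lit 3, nat_lit 5, nat_lit 9],
  [nat_lit 2, nat_lit 3, nat_lit 6, nat_lit 9],
  [nat_lit 1, nat_lit 2, nat_lit 5, nat_lit 6, nat_lit 7, nat_lit 9, nat_lit 10, nat_lit 12],
  [nat_lit 1, nat_lit 2, nat_lit 4, nat_lit 7, nat_lit 9, nat_lit 10, nat_lit 12]] a)) (sumL (fun β => Nat.xor (ud_P a β) (apW st_P (nth [] [[nat_lit 1],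
  [nat_lit 0, nat_lit 1, nat_lit 2, nat_lit 3, nat_lit 5, nat_lit 9],
  [nat_lit 2, nat_lit 3, nat_lit 6, nat_lit 9],
  [nat_lit 1, nat_lit 2, nat_lit 5, nat_lit 6, nat_lit 7, nat_lit 9, nat_lit 10, nat_lit 12],
  [nat_lit 1, nat_lit 2, nat_lit 4, nat_lit 7, nat_lit 9, nat_lit 10, nat_lit 12]] a) β)) H15.Ru.B)) 0 5 = true := by decide +kernel

end H8.RU
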